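import Cfsg.Agent.Lib.Sporadic.HNSub.P.Part0
import Cfsg.Agent.Lib.Sporadic.HNSub.P.Part1
import Cfsg.Agent.Lib.Sporadic.HNSub.P.Part2
import Cfsg.Agent.Lib.Sporadic.HNSub.P.Part3
import Cfsg.Agent.Lib.Sporadic.HNSub.P.Part4
import Cfsg.Agent.Lib.Sporadic.HNSub.P.Part5
import Cfsg.Agent.Lib.Sporadic.HNSub.P.Part6
import Cfsg.Agent.Lib.Sporadic.HNSub.P.Part7
import Cfsg.Agent.Lib.Sporadic.HNSub.P.Part8
import Cfsg.Agent.Lib.Sporadic.HNSub.P.Part9

set_option autoImplicit false
set_option maxRecDepth 20000

/-! All checks (owner: helper25). -/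

namespace CfsgLib.Sporadic.HNSub.P
open CfsgLib.Recog.SporBound (Q)

open CfsgLib.Sporadic.PairEnum in
theorem steps_ok : cert.stepsPart cert.allRels 0 cert.stepChunks = true := by
  have h1 : cert.stepsPart cert.allRels 0 300 = true := cert.stepsPart_cat steps0 steps1 (by decide +kernel) (by decide +kernel)
  have h2 : cert.stepsPart cert.allRels 0 450 = true := cert.stepsPart_cat h1 steps2 (by decide +kernel) (by decide +kernel)
  have h3 : cert.stepsPart cert.allRels 0 600 = true := cert.stepsPart_cat h2 steps3 (by decide +kernel) (by decide +kernel)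
  have h4 : cert.stepsPart cert.allRels 0 750 = true := cert.stepsPart_cat h3 steps4 (by decide +kernel) (by decide +kernel)
  have h5 : cert.stepsPart cert.allRels 0 900 = true := cert.stepsPart_cat h4 steps5 (by decide +kernel) (by decide +kernel)
  have h6 : cert.stepsPart cert.allRels 0 1050 = true := cert.stepsPart_cat h5 steps6 (by decide +kernel) (by decide +kernel)
  have h7 : cert.stepsPart cert.allRels 0 1200 = true := cert.stepsPart_cat h6 steps7 (by decide +kernel) (by decide +kernel)
  have h8 : cert.stepsPart cert.allRels 0 1350 = true := cert.stepsPart_cat h7 steps8 (by decide +kernel) (by decide +kernel)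
  have h9 : cert.stepsPart cert.allRels 0 1415 = true := cert.stepsPart_cat h8 steps9 (by decide +kernel) (by decide +kernel)
  rw [show cert.stepChunks = 1415 by decide +kernel]
  exact h9

theorem defs_ok : CfsgLib.ThreeTrans.CosetIndex.forallFrom cert.defOK 0 cert.nd = true := by decide +kernel

theorem valid : cert.OK where
  base := by decide +kernel
  defs := defs_ok
  steps := steps_ok
  finals := by decide +kernel

end CfsgLib.Sporadic.HNSub.P
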