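import Cfsg.Agent.Lib.Sporadic.HNSub.P.Tree5

set_option autoImplicit false
set_option maxRecDepth 20000

/-! Generated certificate (owner: helper25). -/

namespace CfsgLib.Sporadic.HNSub.P
open CfsgLib.Recog.SporBound (Q)

/-- The certificate. -/
noncomputable def cert : CfsgLib.Sporadic.PairEnum.Cert where
  n := 352
  nd := 29825
  nf := 120339
  nl := 6
  kl := [0, 2, 4]
  facts := (.node (.node (.node (.node ft1 ft2 ft3 ft4) (.node ft5 ft6 ft7 ft8) (.node ft9 ft10 ft11 ft12) (.node ft13 ft14 ft15 ft16)) (.node (.node ft17 ft18 ft19 ft20) (.node ft21 ft22 ft23 ft24) (.node ft25 ft26 ft27 ft28) (.node ft29 ft30 ft31 ft32)) (.node (.node ft33 ft34 ft35 ft36) (.node ft37 ft38 ft39 ft40) (.node ft41 ft42 ft43 ft44) (.node ft45 ft46 ft47 ft48)) (.node (.node ft49 ft50 ft51 ft52) (.node ft53 ft54 ft55 ft56) (.node ft57 ft58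 ft59 ft60) (.node ft61 ft62 ft63 ft64))) (.node (.node (.node ft65 ft66 ft67 ft68) (.node ft69 ft70 ft71 ft72) (.node ft73 ft74 ft75 ft76) (.node ft77 ft78 ft79 ft80)) (.node (.node ft81 ft82 ft83 ft84) (.node ft85 ft86 ft87 ft88) (.node ft89 ft90 ft91 ft92) (.node ft93 ft94 ft95 ft96)) (.node (.node ft97 ft98 ft99 ft100) (.node ft101 ft102 ft103 ft104) (.node ft105 ft106 ft107 ft108) (.node ft109 ft110 ft111 ft112)) (.node (.node ft113 ft114 ft115 ft116) (.node ft117 ft118 ft119 ft120) (.node ft121 ft122 ft123 ft124) (.node ft125 ft126 ft127 ft128))) (.node (.node (.node ft129 ft130 ft131 ft132) (.node ft133 ft134 ft135 ft136) (.node ft137 ft138 ft139 ft140) (.node ft141 ft142 ft143 ft144)) (.node (.node ft145 ft146 ft147 ft148) (.node ft149 ft150 ft151 ft152) (.node ft153 ft154 ft155 ft156) (.node ft157 ft158 ft159 ft160))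 (.node (.node ft161 ft162 ft163 ft164) (.node ft165 ft166 ft167 ft168) (.node ft169 ft170 ft171 ft172) (.node ft173 ft174 ft175 ft176)) (.node (.node ft177 ft178 ft179 ft180) (.node ft181 ft182 ft183 ft184) (.node ft185 ft186 ft187 ft188) (.node ft189 ft190 ft191 ft192))) (.node (.node (.node ft193 ft194 ft195 ft196) (.node ft197 ft198 ft199 ft200) (.node ft201 ft202 ft203 ft204) (.node ft205 ft206 ft207 ft208)) (.node (.node ft209 ft210 ft211 ft212) (.node ft213 ft214 ft215 ft216) (.node ft217 ft218 ft219 ft220) (.node ft221 ft222 ft223 ft224)) (.node (.node ft225 ft226 ft227 ft228) (.node ft229 ft230 ft231 ft232) (.node ft233 ft234 ft235 ft236) (.node ft237 ft238 ft239 ft240)) (.node (.node ft241 ft242 ft243 ft244) (.node ft245 ft246 ft247 ft248) (.node ft249 ft250 ft251 ft252) (.node ft253 ft254 ft255 ft256))))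
  cn := (.node (.leaf 0x197000bb000c700015007fa000aa00051009610002700c3200f6c00b5800c2e000d30061c007810010a0003700bc1001a30027500080000dd008070096c0002500aab000be0017e0012c0011d0001700020000b60001c00187001980062d0018200528006f200194007930133d000b1001090065700711001140011200276006590065300b3c006310019600295007820007400014007f90003f0002800c4500b59000d400780000360009d001a40007f000240011e0012b000180001f0001d0062c00011001d60010e006f30065600108007880062e001130065a00b3d001d70029600056000130002900b5a000d5000350005a00023000190001b000100010d000080062f00787000a4009dc000120002d0002a00b00000340001a0000f00004000a3009dd0002b00033000a200005000a10002c00003000020000100000) (.leaf 0xcc4008a900c8c001260079f00c180070a0080d016750012200b2f00cc50003a0071e0058a00a2c006510061b00116008180027a000a60026e00c49009600081a0065e009d3007890207600655000c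100eb900c1b00bd50063f009720018000971000a5000c40011b000bc007fc000a900809000670098a0093200c31002780027d00b4700b5700c1000c2d006ea000d2001a100c2f0061a0027c00b560078b000380027b001a200c830026f00bc8000dc00b3500c1a0005d0080800eb800cc6000bd0052b0011c00026000cd000160017f0002100b31001860029300188000b80052500ccd00b2d001810052900767006f100b450019500c1700bda007940133e0063a000af0133c00675006780071000b4600115002790011100bc2002770095f0079800658006540019300c05008060063000632000b7002940097b00783) (.leaf 0x805006fb0086300649006600057e00119001250086400648006fa0081400eb60063300b390003c00706007030064700804001180058d00120008da000ba0011f0012400988008150063d0057f0092f008a80012700c190070b0065f007250057d0079000652009c100117000a7009c00065d007560137c000bf000c200eba0063c000c30063400bd8008cb00868000a8009c400b38000660003b0098900c3000b4800c11001850028600705000d10093a00c44008190078a000390004e0065000c8200bc700b360012800eb7006660052c0058e009d200121000b9006e80052600287014b90063e0052a007260095e)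 (.leaf 0))
  steps := (.node st419 st582 (.node (.node (.node st585 st588 st591 st593) (.node st596 st599 st601 st603) (.node st606 st609 st611 st613) (.node st616 st619 st621 st623)) (.node (.node st626 st629 st632 st634) (.node st637 st640 st642 st644) (.node st647 st650 st652 st654) (.node st657 st660 st662 st664)) (.node (.node st667 st670 st672 st674) (.node st677 st680 st682 st684) (.node st687 st690 st692 st694) (.node st697 st700 st702 st704)) (.node (.node st707 st710 st712 st714) (.node st717 st720 st722 st724) (.node st727 st730 st732 st734) (.node st737 st740 st742 st744))) (.node (.node (.node st747 st750 st753 st755) (.node st758 st761 st763 st765) (.node st768 st771 st773 st775) (.node st778 st781 st783 st785)) (.node (.node st788 st791 st793 st795) (.node st798 st801 st803 st805) (.node st808 st811 st813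 st815) (.node st818 st821 st823 st825)) (.node (.node st828 st831 st833 st835) (.node st838 st841 st843 st845) (.node st848 st851 st853 st855) (.node st858 st861 st863 st865)) (.node (.node st868 st871 st873 st875) (.node st878 st881 st883 st885) (.node st888 st891 st893 st895) (.node st898 st901 st903 st905))))
  finals := (.node et906 et907 et908 et909)
  rels := [[0, 0], [2, 2, 2, 2, 2, 2], [0, 3, 0, 2, 0, 3, 0, 2, 0, 3, 0, 2], [0, 2, 2, 0, 2, 2, 2, 0, 2, 2, 0, 2, 2, 2, 0, 2, 2, 0, 2, 2, 2], [0, 2, 0, 2, 0, 2, 0, 2, 0, 2, 0, 2, 0, 2, 0, 2], [0, 2, 0, 2, 2, 2, 0, 2, 0, 2, 2, 2, 0, 2, 0, 2, 2, 2, 0, 2, 0, 2, 2, 2], [4, 4], [4, 0, 4, 0], [5, 2, 0, 3, 3, 0, 3, 0, 3, 4, 2, 0, 2, 0, 2, 2, 0, 3], [4, 3, 0, 3, 0, 3, 3, 3, 4, 2, 2, 2, 0, 2, 0, 2, 0, 3, 0, 3, 0, 3, 3, 3, 4, 2, 2, 2, 0, 2, 0, 2, 0, 3, 0, 3, 0, 3, 3, 3, 4, 2, 2,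 2, 0, 2, 0, 2, 0], [0, 2, 0, 2, 0, 2, 0, 2, 0, 2, 0, 2, 0, 2, 0, 2], [0, 2, 0, 2, 0, 2, 0, 2, 0, 2, 0, 2, 0, 2, 0, 2, 0, 2, 0, 2, 0, 2, 0, 2, 0, 2, 0, 2, 0, 2, 0, 2, 0, 2, 0, 2, 0, 2, 0, 2, 0, 2, 0, 2, 0, 2, 0, 2], [0, 2, 0, 2, 2, 2, 0, 2, 0, 2, 2, 2, 0, 2, 0, 2, 2, 2, 0, 2, 0, 2, 2, 2], [0, 2, 2, 0, 2, 2, 2, 0, 2, 2, 0, 2, 2, 2, 0, 2, 2, 0, 2, 2, 2], [0, 2, 0, 2, 0, 2, 0, 2, 0, 2, 0, 2, 0, 2, 0, 2, 0, 2, 0, 2, 0, 2, 0, 2, 0, 2, 0, 2, 0, 2, 0, 2, 0, 2, 0, 2, 0, 2, 0, 2, 0, 2, 0, 2, 0, 2, 0, 2, 0, 2, 0, 2, 0, 2, 0, 2, 0, 2, 0, 2, 0, 2, 0, 2, 0, 2, 0, 2, 0, 2, 0, 2, 0, 2, 0, 2, 0, 2, 0, 2], [0, 3, 0, 3, 0, 3, 0, 3, 0, 3, 0, 3, 0, 3, 0, 3], [0, 2, 0, 3, 0, 2, 0, 3, 0, 2, 0, 3], [0, 3, 0, 3, 0, 3, 0, 3, 0, 3, 0, 3, 0, 3, 0, 3, 0, 3, 0, 3, 0, 3, 0, 3, 0, 3, 0, 3, 0, 3, 0, 3, 0, 3, 0, 3, 0, 3, 0, 3, 0, 3, 0, 3, 0, 3, 0, 3], [0,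 2, 0, 3, 0, 2, 0, 3, 0, 2, 0, 3, 0, 2, 0, 3, 0, 2, 0, 3, 0, 2, 0, 3], [0, 3, 0, 3, 0, 3, 0, 3, 0, 3, 0, 3, 0, 3, 0, 3, 0, 3, 0, 3, 0, 3, 0, 3, 0, 3, 0, 3, 0, 3, 0, 3, 0, 3, 0, 3, 0, 3, 0, 3, 0, 3, 0, 3, 0, 3, 0, 3, 0, 3, 0, 3, 0, 3, 0, 3, 0, 3, 0, 3, 0, 3, 0, 3, 0, 3, 0, 3, 0, 3, 0, 3, 0, 3, 0, 3, 0, 3, 0, 3], [0, 3, 0, 3, 3, 3, 0, 3, 0, 3, 3, 3, 0, 3, 0, 3, 3, 3, 0, 3, 0, 3, 3, 3], [0, 3, 3, 0, 3, 3, 3, 0, 3, 3, 0, 3, 3, 3, 0, 3, 3, 0, 3, 3, 3], [0, 2, 2, 2, 2, 2, 2, 0, 2, 2, 2, 2, 2, 2], [0, 3, 3, 3, 3, 3, 3, 0, 3, 3, 3, 3, 3, 3], [0, 3, 0, 3, 3, 3, 3, 3, 0, 3, 0, 3, 3, 3, 3, 3, 0, 3, 0, 3, 3, 3, 3, 3], [0, 2, 2, 0, 2, 2, 2, 2, 2, 2, 0, 2, 2, 0, 2, 2, 2, 2, 2, 2, 0, 2, 2, 0, 2, 2, 2, 2, 2, 2], [0, 2, 2, 0, 3, 3, 3, 3, 3, 3, 0, 2, 2, 0, 3, 3, 3, 3, 3, 3, 0, 2, 2, 0, 3, 3, 3, 3, 3, 3], [0, 3, 3, 0, 3, 3, 3, 3, 3, 3, 0,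 3, 3, 0, 3, 3, 3, 3, 3, 3, 0, 3, 3, 0, 3, 3, 3, 3, 3, 3], [0, 2, 0, 2, 2, 2, 2, 2, 2, 0, 2, 0, 2, 2, 2, 2, 2, 2, 0, 2, 0, 2, 2, 2, 2, 2, 2, 0, 2, 0, 2, 2, 2, 2, 2, 2, 0, 2, 0, 2, 2, 2, 2, 2, 2, 0, 2, 0, 2, 2, 2, 2, 2, 2], [0, 2, 0, 3, 3, 3, 3, 3, 3, 0, 2, 0, 3, 3, 3, 3, 3, 3, 0, 2, 0, 3, 3, 3, 3, 3, 3, 0, 2, 0, 3, 3, 3, 3, 3, 3, 0, 2, 0, 3, 3, 3, 3, 3, 3, 0, 2, 0, 3, 3, 3, 3, 3, 3], [0, 3, 0, 3, 3, 3, 3, 3, 3, 0, 3, 0, 3, 3, 3, 3, 3, 3, 0, 3, 0, 3, 3, 3, 3, 3, 3, 0, 3, 0, 3, 3, 3, 3, 3, 3, 0, 3, 0, 3, 3, 3, 3, 3, 3, 0, 3, 0, 3, 3, 3, 3, 3, 3], [0, 2, 2, 0, 3, 3, 3, 0, 2, 2, 0, 3, 3, 3, 0, 2, 2, 0, 3, 3, 3], [0, 2, 2, 2, 2, 0, 3, 3, 3, 0, 2, 2, 2, 2, 0, 3, 3, 3, 0, 2, 2, 2, 2, 0, 3, 3, 3], [0, 2, 2, 2, 2, 2, 2, 0, 3, 0, 2, 2, 2, 2, 2, 2, 0, 3, 0, 2, 2, 2, 2, 2, 2, 0, 3, 0, 2, 2, 2, 2, 2, 2, 0, 3, 0, 2, 2, 2, 2, 2, 2, 0,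 3, 0, 2, 2, 2, 2, 2, 2, 0, 3], [0, 2, 2, 2, 2, 2, 2, 0, 3, 3, 0, 2, 2, 2, 2, 2, 2, 0, 3, 3, 0, 2, 2, 2, 2, 2, 2, 0, 3, 3], [0, 2, 0, 3, 3, 3, 3, 3, 0, 2, 0, 3, 3, 3, 3, 3, 0, 2, 0, 3, 3, 3, 3, 3, 0, 2, 0, 3, 3, 3, 3, 3], [0, 2, 0, 2, 2, 2, 2, 2, 2, 2, 0, 2, 0, 2, 2, 2, 2, 2, 2, 2, 0, 2, 0, 2, 2, 2, 2, 2, 2, 2, 0, 2, 0, 2, 2, 2, 2, 2, 2, 2], [0, 3, 3, 3, 3, 3, 0, 3, 3, 3, 3, 3, 0, 3, 3, 3, 3, 3, 0, 3, 3, 3, 3, 3, 0, 3, 3, 3, 3, 3, 0, 3, 3, 3, 3, 3, 0, 3, 3, 3, 3, 3, 0, 3, 3, 3, 3, 3], [0, 2, 2, 2, 2, 2, 2, 2, 0, 2, 2, 2, 2, 2, 2, 2, 0, 2, 2, 2, 2, 2, 2, 2, 0, 2, 2, 2, 2, 2, 2, 2, 0, 2, 2, 2, 2, 2, 2, 2, 0, 2, 2, 2, 2, 2, 2, 2, 0, 2, 2, 2, 2, 2, 2, 2, 0, 2, 2, 2, 2, 2, 2, 2], [0, 2, 0, 2, 0, 3, 3, 3, 3, 3, 0, 2, 0, 2, 0, 3, 3, 3, 3, 3, 0, 2, 0, 2, 0, 3, 3, 3, 3, 3, 0, 2, 0, 2, 0, 3, 3, 3, 3, 3, 0, 2, 0, 2, 0, 3, 3, 3, 3,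 3, 0, 2, 0, 2, 0, 3, 3, 3, 3, 3, 0, 2, 0, 2, 0, 3, 3, 3, 3, 3, 0, 2, 0, 2, 0, 3, 3, 3, 3, 3], [0, 2, 2, 2, 2, 2, 2, 2, 0, 3, 0, 2, 2, 2, 2, 2, 2, 2, 0, 3, 0, 2, 2, 2, 2, 2, 2, 2, 0, 3], [0, 2, 0, 3, 3, 3, 0, 2, 0, 3, 3, 3, 0, 2, 0, 3, 3, 3, 0, 2, 0, 3, 3, 3]]
  subs := [[0], [2]]

end CfsgLib.Sporadic.HNSub.P
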